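import Mathlib
import Cfsg.Prelude.Def_Characters
import Cfsg.Prelude.Def_Blocks
import Cfsg.Agent.Lib.Helper25.CharLinear

/-!
# Project BR (Brauer–Reynolds, S4701 / S0999): definitions

`G` perfect, `p ∣ |G| < p ^ 3`, Sylow `p`-subgroup `P` not normal, no normal subgroup of order `2`
⟹ `G ≅ PSL(2,p)` (`p > 3`) or `G ≅ SL(2,2^m)`, `p = 2^m + 1 > 3`.
-/

set_option autoImplicit false

namespace Cfsg.Agent.Lib.helper7.BR

open Classical
open Cfsg.Agent.Lib.Helper25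

variable {G : Type*} [Group G]

/-- `N_G(P)` -/
abbrev nrm {p : ℕ} (P : Sylow p G) : Subgroup G :=
  Subgroup.normalizer ((P : Subgroup G) : Set G)

/-- `C_G(P)` -/
abbrev cen {p : ℕ} (P : Sylow p G) : Subgroup G :=
  Subgroup.centralizer ((P : Subgroup G) : Set G)

/-- The group-theoretic setting of the second half of the proof (`n = t - 1 ≥ 2`, `w = 1`):
`|P| = p`, `C_G(P) = P`, `|N_G(P)| = p q`, `|G : N_G(P)| = 1 + (t-1) p`, `q t = p - 1`, `t ≥ 3`, `q ≥ 2`. -/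
structure Setting (p : ℕ) (P : Sylow p G) (q t : ℕ) : Prop where
  prime : p.Prime
  cardP : Nat.card (P : Subgroup G) = p
  cent : cen P = (P : Subgroup G)
  cardN : Nat.card (nrm P) = p * q
  index : (nrm P).index = 1 + (t - 1) * p
  qt : q * t = p - 1
  ht : 3 ≤ t
  hq : 2 ≤ q

/-- The character data of the second half of the proof (branch `ε = -1`): the irreducible characters of
degree prime to `p` are `1`, the members of `Xp` (degree `1 + (t-1) p`, value `1` on `P ∖ 1`), of `Xm`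
(degree `p - 1`, value `-1` on `P ∖ 1`) and of `Y` (`t` characters of degree `p - q` whose sum over `P` is `p`,
whose sum over `Y` is `1` on `P ∖ 1`); `|Xp| t + 2 = q`, `|Xp| + |Xm| + 1 = q`. -/
structure CharData [Fintype G] (p : ℕ) (P : Sylow p G) (q t : ℕ)
    (Xp Xm Y : Finset (Cfsg.IrrCharacter G)) : Prop where
  triv_notMem : trivIrr G ∉ Xp ∧ trivIrr G ∉ Xm ∧ trivIrr G ∉ Y
  disj : Disjoint Xp Xm ∧ Disjoint Xp Y ∧ Disjoint Xm Y
  card_X : Xp.card + Xm.card + 1 = q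
  card_Y : Y.card = t
  count : Xp.card * t + 2 = q
  deg_Xp : ∀ χ ∈ Xp, (χ : G → ℂ) 1 = ((1 + (t - 1) * p : ℕ) : ℂ)
  val_Xp : ∀ χ ∈ Xp, ∀ x ∈ (P : Subgroup G), x ≠ 1 → (χ : G → ℂ) x = 1
  deg_Xm : ∀ χ ∈ Xm, (χ : G → ℂ) 1 = ((p - 1 : ℕ) : ℂ)
  val_Xm : ∀ χ ∈ Xm, ∀ x ∈ (P : Subgroup G), x ≠ 1 → (χ : G → ℂ) x = -1
  deg_Y : ∀ θ ∈ Y, (θ : G → ℂ) 1 = ((p - q : ℕ) : ℂ)
  sum_Y : ∀ θ ∈ Y, ∑ x : ↥(P : Subgroup G), (θ : G → ℂ) (x : G) = (p : ℂ)
  sum_over_Y : ∀ x ∈ (P : Subgroup G), x ≠ 1 → ∑ θ ∈ Y, (θ : G → ℂ) x = 1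

/-- the irreducible characters outside `1, Xp, Xm, Y` -/
noncomputable def rest [Fintype (Cfsg.IrrCharacter G)] (Xp Xm Y : Finset (Cfsg.IrrCharacter G)) :
    Finset (Cfsg.IrrCharacter G) :=
  Finset.univ \ (insert (trivIrr G) (Xp ∪ Xm ∪ Y))

/-- the permutation character of `G` on the cosets of `N_G(P)` -/
noncomputable def permChar [Fintype G] {p : ℕ} (P : Sylow p G) : G → ℂ :=
  Cfsg.indFun (nrm P) (fun _ => (1 : ℂ))

/-- the conjugate subgroup `x N x⁻¹` -/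
def conjSub (x : G) (N : Subgroup G) : Subgroup G :=
  N.map (MulAut.conj x).toMonoidHom

theorem mem_conjSub (x : G) (N : Subgroup G) (g : G) : g ∈ conjSub x N ↔ x⁻¹ * g * x ∈ N := by
  unfold conjSub
  rw [Subgroup.mem_map]
  constructor
  · rintro ⟨n, hn, rfl⟩
    have : x⁻¹ * ((MulAut.conj x).toMonoidHom n) * x = n := by
      simp [MulAut.conj_apply, mul_assoc]
    rw [this]
    exact hn
  · intro h
    exact ⟨x⁻¹ * g * x, h, by simp [MulAut.conj_apply, mul_assoc]⟩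

/-- `H` is a complement of `P` in `N_G(P)` in the setting `Setting p P q t`: a cyclic subgroup of
`N_G(P)` of order `q`. -/
structure Compl {p : ℕ} (P : Sylow p G) (q : ℕ) (H : Subgroup G) : Prop where
  le : H ≤ nrm P
  card : Nat.card H = q
  cyc : IsCyclic H

/-- `L = N_G(H)` -/
abbrev nrmH (H : Subgroup G) : Subgroup G :=
  Subgroup.normalizer ((H : Subgroup G) : Set G)

end Cfsg.Agent.Lib.helper7.BR
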