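import Mathlib
import Cfsg.Agent.Lib.helper7.BR.Defs

/-!
# Project BR: splitting a sum over all irreducible characters along `1, Xp, Xm, Y, rest`
-/

set_option autoImplicit false
set_option linter.unusedSectionVars false

namespace Cfsg.Agent.Lib.helper7.BR

open Classical
open Cfsg.Agent.Lib.Helper25

universe u

variable {G : Type u} [Group G] [Fintype G] {p : ℕ} {P : Sylow p G} {q t : ℕ}
  {Xp Xm Y : Finset (Cfsg.IrrCharacter G)}

/-- membership in `rest` -/
theorem mem_rest [Fintype (Cfsg.IrrCharacter G)] (ψ : Cfsg.IrrCharacter G) :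
    ψ ∈ rest Xp Xm Y ↔ ψ ≠ trivIrr G ∧ ψ ∉ Xp ∧ ψ ∉ Xm ∧ ψ ∉ Y := by
  unfold rest
  simp only [Finset.mem_sdiff, Finset.mem_univ, true_and, Finset.mem_insert, Finset.mem_union,
    not_or]
  tauto

/-- a sum over all irreducible characters splits along `1, Xp, Xm, Y, rest` -/
theorem sum_irr_split {M : Type*} [AddCommMonoid M] [Fintype (Cfsg.IrrCharacter G)]
    (hD : CharData p P q t Xp Xm Y) (f : Cfsg.IrrCharacter G → M) :
    ∑ χ : Cfsg.IrrCharacter G, f χ =
      f (trivIrr G) + ∑ χ ∈ Xp, f χ + ∑ χ ∈ Xm, f χ + ∑ χ ∈ Y, f χ + ∑ χ ∈ rest Xp Xm Y, f χ := by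
  obtain ⟨h1, h2, h3⟩ := hD.triv_notMem
  obtain ⟨d1, d2, d3⟩ := hD.disj
  set S := insert (trivIrr G) (Xp ∪ Xm ∪ Y) with hS
  have hdisj : Disjoint S (rest Xp Xm Y) := by
    rw [Finset.disjoint_left]
    intro χ hχ hχr
    rw [mem_rest] at hχr
    rw [hS, Finset.mem_insert, Finset.mem_union, Finset.mem_union] at hχ
    tauto
  have huniv : (Finset.univ : Finset (Cfsg.IrrCharacter G)) = S ∪ rest Xp Xm Y := by
    ext χ
    simp only [Finset.mem_univ, true_iff, Finset.mem_union, mem_rest, hS, Finset.mem_insert]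
    tauto
  have hn : trivIrr G ∉ Xp ∪ Xm ∪ Y := by
    simp only [Finset.mem_union, not_or]
    exact ⟨⟨h1, h2⟩, h3⟩
  have d4 : Disjoint (Xp ∪ Xm) Y := Finset.disjoint_union_left.mpr ⟨d2, d3⟩
  rw [huniv, Finset.sum_union hdisj, hS, Finset.sum_insert hn, Finset.sum_union d4,
    Finset.sum_union d1]
  simp only [add_assoc]

end Cfsg.Agent.Lib.helper7.BR
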