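import Mathlib
import Cfsg.Agent.Lib.helper7.BR.Defs
import Cfsg.Agent.Lib.helper7.BR.Sums
import Cfsg.Agent.Lib.Helper25.CharOrth
import Cfsg.Agent.Lib.helper2.CharInt
import Cfsg.Agent.Lib.helper2.CharNat
import Cfsg.Agent.Lib.Helper1.BREND1core
import Cfsg.Agent.Lib.Helper10.BRINVOL
import Cfsg.Agent.Lib.Helper13.BRDEC4
import Cfsg.Agent.Lib.Helper13.BRLSTR5
import Cfsg.Agent.Lib.Helper24.BRRSQ
import Cfsg.Agent.Lib.Helper27.BRINDH2
import Cfsg.Agent.Lib.Helper28.BRLSTR3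
import Cfsg.Agent.Lib.Helper28.BRLSTR4

set_option autoImplicit false
set_option linter.unusedVariables false
set_option linter.unusedSectionVars false
set_option linter.style.haveILetI false

namespace Cfsg.Agent.Lib.helper7.BR

open Classical
open scoped ComplexConjugate
open Cfsg.Agent.Lib.Helper25 Cfsg.Agent.Lib.helper2

universe u

variable {G : Type u} [Group G] [Fintype G] {p : ℕ} [Fact p.Prime] {P : Sylow p G} {q t : ℕ}
  {Xp Xm Y : Finset (Cfsg.IrrCharacter G)} {H : Subgroup G}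

/-- CEN : `C_G(τ) = L` and the values of all irreducible characters at `τ` -/
theorem involution_values [Fintype (Cfsg.IrrCharacter G)] (hS : Setting p P q t)
    (hD : CharData p P q t Xp Xm Y) (hH : Compl P q H) (τ : G) (hτH : τ ∈ H) (hτ : orderOf τ = 2) :
    Subgroup.centralizer ({τ} : Set G) = nrmH H ∧
    (∀ χ ∈ Xm, (χ : G → ℂ) τ = 0) ∧
    (∀ θ ∈ Y, (θ : G → ℂ) τ = 1 ∨ (θ : G → ℂ) τ = -1) ∧
    (∀ ψ ∈ rest Xp Xm Y, (ψ : G → ℂ) τ = (ψ : G → ℂ) 1 / (p : ℂ)) := by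
  have hpp := hS.prime
  have ht3 := hS.ht
  have hq2 := hS.hq
  have hqt := hS.qt
  have hp2 := hpp.two_le
  have hpeq : p = q * t + 1 := by omega
  have hqp : q < p := by nlinarith
  have hτ1 : τ ≠ 1 := by
    intro h
    rw [h, orderOf_one] at hτ
    omega
  have hτsq : τ ^ 2 = 1 := by rw [← hτ]; exact pow_orderOf_eq_one τ
  have hXpv := fun χ hχ => Xp_value hS hD hH χ hχ τ hτH hτ
  have hL := card_nrmH hS hD hH
  have hle := centralizer_le_nrmH hS hD hH τ hτH hτ1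
  obtain ⟨hdec1, hdec2, hdec3⟩ := perm_decomp hS hD
  have hrsq := rest_sum_sq hS hD
  have hπτ : permChar P τ = (t : ℂ) := by
    rw [permChar_H hS hD hH τ hτH hτ1, hL]
    have hqC : (q : ℂ) ≠ 0 := by exact_mod_cast (by omega : q ≠ 0)
    push_cast
    field_simp
  have hpC : (p : ℂ) ≠ 0 := by exact_mod_cast (by omega : p ≠ 0)
  have hpR : (p : ℝ) ≠ 0 := by exact_mod_cast (by omega : p ≠ 0)
  -- the real numbers `e ψ = ψ(1)/p`
  have hdegnat : ∀ ψ : Cfsg.IrrCharacter G, ∃ n : ℕ, (ψ : G → ℂ) 1 = (n : ℂ) := by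
    intro ψ
    obtain ⟨n, -, hn, -⟩ := irr_degree_dvd_card ψ
    exact ⟨n, hn⟩
  choose dg hdg using hdegnat
  set e : Cfsg.IrrCharacter G → ℝ := fun ψ => (dg ψ : ℝ) / (p : ℝ) with he
  have heC : ∀ ψ : Cfsg.IrrCharacter G, (ψ : G → ℂ) 1 / (p : ℂ) = ((e ψ : ℝ) : ℂ) := by
    intro ψ
    rw [hdg ψ, he]
    push_cast
    rfl
  -- `∑_rest e² = t - 1`
  have hesq : ∑ ψ ∈ rest Xp Xm Y, (e ψ) ^ 2 = (t : ℝ) - 1 := by
    have h1 : ∑ ψ ∈ rest Xp Xm Y, (((e ψ) ^ 2 : ℝ) : ℂ) = (((t : ℝ) - 1 : ℝ) : ℂ) := by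
      have : ∀ ψ ∈ rest Xp Xm Y, (((e ψ) ^ 2 : ℝ) : ℂ) = ((ψ : G → ℂ) 1) ^ 2 / (p : ℂ) ^ 2 := by
        intro ψ _
        rw [Complex.ofReal_pow, ← heC ψ, div_pow]
      rw [Finset.sum_congr rfl this, ← Finset.sum_div, hrsq]
      push_cast
      field_simp
    have h2 : ((∑ ψ ∈ rest Xp Xm Y, (e ψ) ^ 2 : ℝ) : ℂ) = (((t : ℝ) - 1 : ℝ) : ℂ) := by
      rw [Complex.ofReal_sum]; exact h1
    exact Complex.ofReal_injective h2
  -- `∑_rest e ψ(τ) = t - 1`
  have hlin : ∑ ψ ∈ rest Xp Xm Y, ((e ψ : ℝ) : ℂ) * (ψ : G → ℂ) τ = (t : ℂ) - 1 := by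
    have h1 := hdec3 τ
    rw [hπτ] at h1
    have h2 : ∑ ψ ∈ rest Xp Xm Y, (ψ : G → ℂ) 1 / (p : ℂ) * (ψ : G → ℂ) τ =
        ∑ ψ ∈ rest Xp Xm Y, ((e ψ : ℝ) : ℂ) * (ψ : G → ℂ) τ :=
      Finset.sum_congr rfl fun ψ _ => by rw [heC ψ]
    rw [h2] at h1
    linear_combination -h1
  have hlinre : ∑ ψ ∈ rest Xp Xm Y, e ψ * ((ψ : G → ℂ) τ).re = (t : ℝ) - 1 := by
    have h1 := congrArg Complex.re hlin
    rw [Complex.re_sum] at h1
    simp only [Complex.re_ofReal_mul, Complex.sub_re, Complex.natCast_re, Complex.one_re] at h1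
    exact h1
  -- the defect `∑_rest |ψ(τ) - e|²`
  have hdefect : ∑ ψ ∈ rest Xp Xm Y, Complex.normSq ((ψ : G → ℂ) τ - ((e ψ : ℝ) : ℂ)) =
      ∑ ψ ∈ rest Xp Xm Y, Complex.normSq ((ψ : G → ℂ) τ) - ((t : ℝ) - 1) := by
    have h1 : ∀ ψ ∈ rest Xp Xm Y, Complex.normSq ((ψ : G → ℂ) τ - ((e ψ : ℝ) : ℂ)) =
        Complex.normSq ((ψ : G → ℂ) τ) - 2 * (e ψ * ((ψ : G → ℂ) τ).re) + (e ψ) ^ 2 := by
      intro ψ _
      rw [Complex.normSq_sub, Complex.normSq_ofReal, Complex.conj_ofReal, Complex.re_mul_ofReal]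
      ring
    rw [Finset.sum_congr rfl h1, Finset.sum_add_distrib, Finset.sum_sub_distrib, ← Finset.mul_sum,
      hlinre, hesq]
    ring
  -- column orthogonality at `(τ, τ)`
  set c := Nat.card ↥(Subgroup.centralizer ({τ} : Set G)) with hc
  have hcle : c ≤ t * q := by
    rw [← hL]
    exact Subgroup.card_le_of_le hle
  have horth : ∑ χ : Cfsg.IrrCharacter G, Complex.normSq ((χ : G → ℂ) τ) = (c : ℝ) := by
    have h1 := irr_column_orthogonality (G := G) τ τ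
    rw [if_pos (IsConj.refl τ)] at h1
    have h2 : ∑ χ : Cfsg.IrrCharacter G, (χ : G → ℂ) τ * conj ((χ : G → ℂ) τ) =
        ((∑ χ : Cfsg.IrrCharacter G, Complex.normSq ((χ : G → ℂ) τ) : ℝ) : ℂ) := by
      rw [Complex.ofReal_sum]
      exact Finset.sum_congr rfl fun χ _ => Complex.mul_conj _
    rw [h2] at h1
    have h3 : ((c : ℝ) : ℂ) = (c : ℂ) := by push_cast; rfl
    rw [← h3] at h1
    exact Complex.ofReal_injective h1
  rw [sum_irr_split hD] at horth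
  simp only [trivIrr_apply, Complex.normSq_one] at horth
  -- the `Xp` part
  have hXpsum : ∑ χ ∈ Xp, Complex.normSq ((χ : G → ℂ) τ) = (Xp.card : ℝ) * (t : ℝ) ^ 2 := by
    rw [Finset.sum_congr rfl (g := fun _ => (t : ℝ) ^ 2), Finset.sum_const, nsmul_eq_mul]
    intro χ hχ
    rcases hXpv χ hχ with h | h
    · rw [h, Complex.normSq_natCast]; ring
    · rw [h, Complex.normSq_neg, Complex.normSq_natCast]; ring
  -- the `Y` part: odd integers
  have hqeven := q_even hS hD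
  have hpodd : Odd p := by
    rcases hpp.eq_two_or_odd' with h | h
    · omega
    · exact h
  have hYint : ∀ θ ∈ Y, ∃ k : ℤ, (θ : G → ℂ) τ = (k : ℂ) ∧ Odd k := by
    intro θ hθ
    obtain ⟨k, hk, hk2⟩ := char_involution_int (θ : G → ℂ) (isCharacter_of_irr θ) τ hτsq (p - q)
      (hD.deg_Y θ hθ)
    refine ⟨k, hk, ?_⟩
    have hodd : Odd ((p - q : ℕ) : ℤ) := by
      have : Odd (p - q) := Nat.Odd.sub_even hqp.le hpodd hqeven
      exact_mod_cast this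
    obtain ⟨m, hm⟩ := hk2
    have : k = ((p - q : ℕ) : ℤ) - 2 * m := by linarith
    rw [this]
    exact hodd.sub_even (even_two_mul m)
  have hYge : ∀ θ ∈ Y, (1 : ℝ) ≤ Complex.normSq ((θ : G → ℂ) τ) := by
    intro θ hθ
    obtain ⟨k, hk, hodd⟩ := hYint θ hθ
    rw [hk, Complex.normSq_intCast]
    have hk0 : k ≠ 0 := by
      intro h
      rw [h] at hodd
      exact absurd hodd (by decide)
    have : (1 : ℤ) ≤ k * k := by
      have := Int.one_le_abs hk0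
      have h2 : k * k = |k| * |k| := (abs_mul_abs_self k).symm
      rw [h2]
      nlinarith
    exact_mod_cast this
  have hYsum : (t : ℝ) ≤ ∑ θ ∈ Y, Complex.normSq ((θ : G → ℂ) τ) := by
    have := Finset.card_nsmul_le_sum Y (fun θ => Complex.normSq ((θ : G → ℂ) τ)) 1 hYge
    rw [hD.card_Y, nsmul_eq_mul, mul_one] at this
    exact this
  have hXmnonneg : (0 : ℝ) ≤ ∑ χ ∈ Xm, Complex.normSq ((χ : G → ℂ) τ) :=
    Finset.sum_nonneg fun χ _ => Complex.normSq_nonneg _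
  have hdefnonneg : (0 : ℝ) ≤ ∑ ψ ∈ rest Xp Xm Y, Complex.normSq ((ψ : G → ℂ) τ - ((e ψ : ℝ) : ℂ)) :=
    Finset.sum_nonneg fun χ _ => Complex.normSq_nonneg _
  -- `t q = A t² + 2 t`
  have hcount : ((t * q : ℕ) : ℝ) = (Xp.card : ℝ) * (t : ℝ) ^ 2 + 2 * (t : ℝ) := by
    have := hD.count
    rw [← this]
    push_cast
    ring
  have hcleR : (c : ℝ) ≤ ((t * q : ℕ) : ℝ) := by exact_mod_cast hcle
  rw [hXpsum] at horth
  -- all the equalities
  have hXm0 : ∑ χ ∈ Xm, Complex.normSq ((χ : G → ℂ) τ) = 0 := by linarith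
  have hY0 : ∑ θ ∈ Y, Complex.normSq ((θ : G → ℂ) τ) = (t : ℝ) := by linarith
  have hdef0 : ∑ ψ ∈ rest Xp Xm Y, Complex.normSq ((ψ : G → ℂ) τ - ((e ψ : ℝ) : ℂ)) = 0 := by
    linarith
  have hceq : (c : ℝ) = ((t * q : ℕ) : ℝ) := by linarith
  refine ⟨?_, ?_, ?_, ?_⟩
  · apply Subgroup.eq_of_le_of_card_ge hle
    rw [hL]
    have : c = t * q := by exact_mod_cast hceq
    rw [← this]
  · intro χ hχ
    have := (Finset.sum_eq_zero_iff_of_nonneg (fun χ _ => Complex.normSq_nonneg _)).mp hXm0 χ hχ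
    exact Complex.normSq_eq_zero.mp this
  · intro θ hθ
    -- each term is exactly `1`
    have hall : ∀ θ ∈ Y, Complex.normSq ((θ : G → ℂ) τ) = 1 := by
      have h1 : ∑ θ ∈ Y, (Complex.normSq ((θ : G → ℂ) τ) - 1) = 0 := by
        rw [Finset.sum_sub_distrib, hY0, Finset.sum_const, hD.card_Y, nsmul_eq_mul, mul_one, sub_self]
      intro θ hθ
      have := (Finset.sum_eq_zero_iff_of_nonneg (fun θ hθ => sub_nonneg.mpr (hYge θ hθ))).mp h1 θ hθ
      linarith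
    obtain ⟨k, hk, -⟩ := hYint θ hθ
    have h1 := hall θ hθ
    rw [hk, Complex.normSq_intCast] at h1
    have h2 : k * k = 1 := by exact_mod_cast h1
    rcases Int.eq_one_or_neg_one_of_mul_eq_one' h2 with h | h
    · left; rw [hk, h.1]; simp
    · right; rw [hk, h.1]; simp
  · intro ψ hψ
    have := (Finset.sum_eq_zero_iff_of_nonneg (fun χ _ => Complex.normSq_nonneg _)).mp hdef0 ψ hψ
    have h2 := Complex.normSq_eq_zero.mp this
    rw [heC ψ]
    linear_combination h2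

end Cfsg.Agent.Lib.helper7.BR
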