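import Mathlib
import Cfsg.Agent.Lib.helper7.BR.Defs
import Cfsg.Agent.Lib.helper7.BR.Sums
import Cfsg.Agent.Lib.Helper25.CharOrth
import Cfsg.Agent.Lib.helper2.CharInt
import Cfsg.Agent.S0840
import Cfsg.Agent.Lib.helper7.BR.CEN

set_option autoImplicit false
set_option linter.unusedVariables false
set_option linter.unusedSectionVars false
set_option linter.style.haveILetI false

namespace Cfsg.Agent.Lib.helper7.BR

open Classical
open scoped ComplexConjugate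
open Cfsg.Agent.Lib.Helper25

universe u

variable {G : Type u} [Group G] [Fintype G] {p : ℕ} [Fact p.Prime] {P : Sylow p G} {q t : ℕ}
  {Xp Xm Y : Finset (Cfsg.IrrCharacter G)} {H : Subgroup G}

/-- the numerical core of CNT: with `m₁ = t (p - q)`, `p - 1 = q t`, `t Sp + SY = -t`,
`(p (p - q))² / (p q m₁) * (1 + (t Sp + SY)/(p - q) + (t - 1)/p) = (t - 1) q` -/
theorem brcnt_num (p q t Sp SY : ℂ) (hp : p ≠ 0) (hq : q ≠ 0) (ht : t ≠ 0) (hpq : p - q ≠ 0)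
    (hqt : q * t = p - 1) (hrel : t * Sp + SY = -t) :
    (p * (p - q)) * (p * (p - q)) / (p * q * (t * (p - q))) *
      (1 + (t ^ 2 * Sp / (t * (p - q)) + SY / (p - q)) + (t - 1) / p) = (t - 1) * q := by
  have h0 : t ^ 2 * Sp / (t * (p - q)) = t * Sp / (p - q) := by
    field_simp
  have h1 : t ^ 2 * Sp / (t * (p - q)) + SY / (p - q) = -t / (p - q) := by
    rw [h0, ← add_div, hrel]
  rw [h1]
  have hp1 : p = q * t + 1 := by linear_combination -hqt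
  field_simp
  rw [hp1]
  ring

/-- CNT : the number of pairs `(x, y)` of conjugates of `τ` with `x y = τ` is `(t - 1) q` -/
theorem count_pairs [Fintype (Cfsg.IrrCharacter G)] (hS : Setting p P q t)
    (hD : CharData p P q t Xp Xm Y) (hH : Compl P q H) (τ : G) (hτH : τ ∈ H) (hτ : orderOf τ = 2) :
    Nat.card {pr : G × G // IsConj τ pr.1 ∧ IsConj τ pr.2 ∧ pr.1 * pr.2 = τ} = (t - 1) * q := by
  have hpp := hS.prime
  have ht3 := hS.ht
  have hq2 := hS.hq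
  have hqt := hS.qt
  have hp2 := hpp.two_le
  have hpeq : p = q * t + 1 := by omega
  have hqp : q < p := by nlinarith
  obtain ⟨hcent, hXm0, hYpm, hrestv⟩ := involution_values hS hD hH τ hτH hτ
  have hXpv := fun χ hχ => Xp_value hS hD hH χ hχ τ hτH hτ
  have hL := card_nrmH hS hD hH
  -- cast facts
  have hpC : (p : ℂ) ≠ 0 := by exact_mod_cast (by omega : p ≠ 0)
  have hqC : (q : ℂ) ≠ 0 := by exact_mod_cast (by omega : q ≠ 0)
  have htC : (t : ℂ) ≠ 0 := by exact_mod_cast (by omega : t ≠ 0)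
  have hpqC : (p : ℂ) - (q : ℂ) ≠ 0 := by
    have : ((p - q : ℕ) : ℂ) ≠ 0 := by exact_mod_cast (by omega : p - q ≠ 0)
    rwa [Nat.cast_sub hqp.le] at this
  have hqtC : (q : ℂ) * (t : ℂ) = (p : ℂ) - 1 := by
    have : ((q * t : ℕ) : ℂ) = ((p - 1 : ℕ) : ℂ) := by rw [hqt]
    rw [Nat.cast_sub (by omega)] at this
    push_cast at this
    exact this
  -- `1 + (t-1) p = t (p - q)`
  have hm1 : ((1 + (t - 1) * p : ℕ) : ℂ) = (t : ℂ) * ((p : ℂ) - (q : ℂ)) := by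
    rw [Nat.cast_add, Nat.cast_mul, Nat.cast_sub (by omega)]
    push_cast
    linear_combination hqtC
  -- `|G| = p q t (p - q)`
  have hG : (Nat.card G : ℂ) = (p : ℂ) * (q : ℂ) * ((t : ℂ) * ((p : ℂ) - (q : ℂ))) := by
    have h1 : Nat.card G = Nat.card ↥(nrm P) * (nrm P).index := (Subgroup.card_mul_index (nrm P)).symm
    rw [h1, hS.cardN, hS.index]
    push_cast
    have := hm1
    push_cast at this
    rw [this]
  -- the class size
  have hcl : (Nat.card {x : G // IsConj τ x} : ℂ) = (p : ℂ) * ((p : ℂ) - (q : ℂ)) := by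
    have h1 := card_conj_mul_card_centralizer τ
    rw [hcent, hL] at h1
    have h2 : (Nat.card {x : G // IsConj τ x} : ℂ) * ((t : ℂ) * (q : ℂ)) = (Nat.card G : ℂ) := by
      exact_mod_cast congrArg (Nat.cast (R := ℂ)) h1
    rw [hG] at h2
    have h3 : (t : ℂ) * (q : ℂ) ≠ 0 := mul_ne_zero htC hqC
    field_simp at h2 ⊢
    linear_combination h2
  -- values are real
  have hreal_Xp : ∀ χ ∈ Xp, conj ((χ : G → ℂ) τ) = (χ : G → ℂ) τ := by
    intro χ hχ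
    rcases hXpv χ hχ with h | h <;> rw [h] <;> simp
  have hsq_Xp : ∀ χ ∈ Xp, (χ : G → ℂ) τ * (χ : G → ℂ) τ = (t : ℂ) ^ 2 := by
    intro χ hχ
    rcases hXpv χ hχ with h | h <;> rw [h] <;> ring
  have hreal_Y : ∀ θ ∈ Y, conj ((θ : G → ℂ) τ) = (θ : G → ℂ) τ := by
    intro θ hθ
    rcases hYpm θ hθ with h | h <;> rw [h] <;> simp
  have hsq_Y : ∀ θ ∈ Y, (θ : G → ℂ) τ * (θ : G → ℂ) τ = 1 := by
    intro θ hθ
    rcases hYpm θ hθ with h | h <;> rw [h] <;> ring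
  have hrsq := rest_sum_sq hS hD
  set Sp : ℂ := ∑ χ ∈ Xp, (χ : G → ℂ) τ with hSp
  set SY : ℂ := ∑ θ ∈ Y, (θ : G → ℂ) τ with hSY
  have hτ1 : τ ≠ 1 := by
    intro h
    rw [h, orderOf_one] at hτ
    omega
  -- column orthogonality between `τ` and `1`
  have horth : (t : ℂ) * Sp + SY = -(t : ℂ) := by
    have h1 := irr_column_orthogonality (G := G) τ 1
    have hnc : ¬ IsConj (1 : G) τ := by
      intro hc
      rw [isConj_one_right] at hc
      exact hτ1 hc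
    rw [if_neg hnc, sum_irr_split hD] at h1
    simp only [trivIrr_apply, map_one, mul_one] at h1
    have e1 : ∑ χ ∈ Xp, (χ : G → ℂ) τ * conj ((χ : G → ℂ) 1) =
        (t : ℂ) * ((p : ℂ) - (q : ℂ)) * Sp := by
      rw [hSp, Finset.mul_sum]
      refine Finset.sum_congr rfl fun χ hχ => ?_
      rw [hD.deg_Xp χ hχ, hm1, map_mul, map_sub]
      simp only [Complex.conj_natCast]
      ring
    have e2 : ∑ χ ∈ Xm, (χ : G → ℂ) τ * conj ((χ : G → ℂ) 1) = 0 := by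
      apply Finset.sum_eq_zero
      intro χ hχ
      rw [hXm0 χ hχ, zero_mul]
    have e3 : ∑ χ ∈ Y, (χ : G → ℂ) τ * conj ((χ : G → ℂ) 1) = ((p : ℂ) - (q : ℂ)) * SY := by
      rw [hSY, Finset.mul_sum]
      refine Finset.sum_congr rfl fun χ hχ => ?_
      rw [hD.deg_Y χ hχ, Nat.cast_sub hqp.le, map_sub]
      simp only [Complex.conj_natCast]
      ring
    have e4 : ∑ χ ∈ rest Xp Xm Y, (χ : G → ℂ) τ * conj ((χ : G → ℂ) 1) =
        (p : ℂ) * ((t : ℂ) - 1) := by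
      have : ∀ χ ∈ rest Xp Xm Y, (χ : G → ℂ) τ * conj ((χ : G → ℂ) 1) =
          ((χ : G → ℂ) 1) ^ 2 / (p : ℂ) := by
        intro χ hχ
        rw [hrestv χ hχ]
        obtain ⟨n, -, hn, -⟩ := Cfsg.Agent.Lib.helper2.irr_degree_dvd_card χ
        rw [hn, Complex.conj_natCast]
        ring
      rw [Finset.sum_congr rfl this, ← Finset.sum_div, hrsq]
      field_simp
    rw [e1, e2, e3, e4] at h1
    have h5 : ((p : ℂ) - (q : ℂ)) * ((t : ℂ) * Sp + SY + (t : ℂ)) = 0 := by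
      linear_combination h1 - hqtC
    rcases mul_eq_zero.mp h5 with h | h
    · exact absurd h hpqC
    · linear_combination h
  -- the class multiplication constant
  have hmain := Cfsg.Agent.S0840.result τ τ τ
  rw [finsum_eq_sum_of_fintype, sum_irr_split hD] at hmain
  simp only [trivIrr_apply, map_one, mul_one, div_one] at hmain
  have f1 : ∑ χ ∈ Xp, (χ : G → ℂ) τ * (χ : G → ℂ) τ * conj ((χ : G → ℂ) τ) / (χ : G → ℂ) 1 =
      (t : ℂ) ^ 2 * Sp / ((t : ℂ) * ((p : ℂ) - (q : ℂ))) := by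
    rw [hSp, Finset.mul_sum, Finset.sum_div]
    refine Finset.sum_congr rfl fun χ hχ => ?_
    rw [hreal_Xp χ hχ, hsq_Xp χ hχ, hD.deg_Xp χ hχ, hm1]
  have f2 : ∑ χ ∈ Xm, (χ : G → ℂ) τ * (χ : G → ℂ) τ * conj ((χ : G → ℂ) τ) / (χ : G → ℂ) 1 = 0 := by
    apply Finset.sum_eq_zero
    intro χ hχ
    rw [hXm0 χ hχ]; simp
  have f3 : ∑ χ ∈ Y, (χ : G → ℂ) τ * (χ : G → ℂ) τ * conj ((χ : G → ℂ) τ) / (χ : G → ℂ) 1 =
      SY / ((p : ℂ) - (q : ℂ)) := by
    rw [hSY, Finset.sum_div]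
    refine Finset.sum_congr rfl fun χ hχ => ?_
    rw [hreal_Y χ hχ, hsq_Y χ hχ, hD.deg_Y χ hχ, Nat.cast_sub hqp.le, one_mul]
  have f4 : ∑ χ ∈ rest Xp Xm Y,
      (χ : G → ℂ) τ * (χ : G → ℂ) τ * conj ((χ : G → ℂ) τ) / (χ : G → ℂ) 1 =
      ((t : ℂ) - 1) / (p : ℂ) := by
    have : ∀ χ ∈ rest Xp Xm Y,
        (χ : G → ℂ) τ * (χ : G → ℂ) τ * conj ((χ : G → ℂ) τ) / (χ : G → ℂ) 1 =
        ((χ : G → ℂ) 1) ^ 2 / (p : ℂ) ^ 3 := by
      intro χ hχ
      rw [hrestv χ hχ]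
      obtain ⟨n, hn0, hn, -⟩ := Cfsg.Agent.Lib.helper2.irr_degree_dvd_card χ
      rw [hn, map_div₀, Complex.conj_natCast, Complex.conj_natCast]
      have hnC : (n : ℂ) ≠ 0 := by exact_mod_cast hn0.ne'
      field_simp
    rw [Finset.sum_congr rfl this, ← Finset.sum_div, hrsq]
    field_simp
  rw [f1, f2, f3, f4, hcl, hG, add_zero] at hmain
  have hfin := brcnt_num (p : ℂ) (q : ℂ) (t : ℂ) Sp SY hpC hqC htC hpqC hqtC horth
  have e : (1 : ℂ) + (t : ℂ) ^ 2 * Sp / ((t : ℂ) * ((p : ℂ) - (q : ℂ))) + SY / ((p : ℂ) - (q : ℂ)) +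
      ((t : ℂ) - 1) / (p : ℂ) =
      1 + ((t : ℂ) ^ 2 * Sp / ((t : ℂ) * ((p : ℂ) - (q : ℂ))) + SY / ((p : ℂ) - (q : ℂ))) +
      ((t : ℂ) - 1) / (p : ℂ) := by ring
  rw [e, hfin] at hmain
  have : ((t - 1 : ℕ) : ℂ) = (t : ℂ) - 1 := by
    rw [Nat.cast_sub (by omega)]; simp
  rw [← this] at hmain
  exact_mod_cast hmain

end Cfsg.Agent.Lib.helper7.BR
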