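import Mathlib
import Cfsg.Agent.Lib.helper7.BR.Defs
import Cfsg.Agent.Lib.helper7.BR.Sums
import Cfsg.Agent.Lib.helper7.BR.CNT

set_option autoImplicit false
set_option linter.unusedVariables false
set_option linter.unusedSectionVars false
set_option linter.style.haveILetI false

namespace Cfsg.Agent.Lib.helper7.BR

open Classical
open Cfsg.Agent.Lib.Helper25

universe u

variable {G : Type u} [Group G] [Fintype G] {p : ℕ} [Fact p.Prime] {P : Sylow p G} {q t : ℕ}
  {Xp Xm Y : Finset (Cfsg.IrrCharacter G)} {H : Subgroup G}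

/-- a cyclic subgroup has at most one element of order `2` -/
theorem brinv_unique (H : Subgroup G) (hc : IsCyclic ↥H) (x τ : G) (hx : x ∈ H) (hτ : τ ∈ H)
    (hx2 : orderOf x = 2) (hτ2 : orderOf τ = 2) : x = τ := by
  haveI := hc
  by_contra hne
  have h1 := IsCyclic.card_pow_eq_one_le (α := ↥H) (n := 2) (by norm_num)
  have hx1 : x ≠ 1 := by
    intro h; rw [h, orderOf_one] at hx2; omega
  have hτ1 : τ ≠ 1 := by
    intro h; rw [h, orderOf_one] at hτ2; omega
  have hxsq : x ^ 2 = 1 := by rw [← hx2]; exact pow_orderOf_eq_one x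
  have hτsq : τ ^ 2 = 1 := by rw [← hτ2]; exact pow_orderOf_eq_one τ
  have hsub : ({(1 : ↥H), ⟨x, hx⟩, ⟨τ, hτ⟩} : Finset ↥H) ⊆
      Finset.univ.filter (fun a : ↥H => a ^ 2 = 1) := by
    intro a ha
    rw [Finset.mem_filter]
    refine ⟨Finset.mem_univ _, ?_⟩
    simp only [Finset.mem_insert, Finset.mem_singleton] at ha
    rcases ha with h | h | h
    · rw [h]; simp
    · rw [h]; apply Subtype.ext; simpa using hxsq
    · rw [h]; apply Subtype.ext; simpa using hτsq
  have hcard : ({(1 : ↥H), ⟨x, hx⟩, ⟨τ, hτ⟩} : Finset ↥H).card = 3 := by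
    rw [Finset.card_insert_of_notMem, Finset.card_insert_of_notMem, Finset.card_singleton]
    · simp only [Finset.mem_singleton]
      intro h
      exact hne (congrArg Subtype.val h)
    · simp only [Finset.mem_insert, Finset.mem_singleton, not_or]
      constructor
      · intro h
        exact hx1 (congrArg Subtype.val h).symm
      · intro h
        exact hτ1 (congrArg Subtype.val h).symm
  have := Finset.card_le_card hsub
  omega

/-- conjugates have the same order -/
theorem brinv_orderOf {a b : G} (h : IsConj a b) : orderOf b = orderOf a := by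
  obtain ⟨c, hc⟩ := isConj_iff.mp h
  rw [← hc, ← MulAut.conj_apply]
  exact MulEquiv.orderOf_eq (MulAut.conj c) a

/-- two involutions whose product is an involution `τ` commute with `τ` -/
theorem brinv_pair (x y τ : G) (hx : orderOf x = 2) (hy : orderOf y = 2) (hτ : orderOf τ = 2)
    (hxy : x * y = τ) : τ * x = x * τ := by
  have hxsq : x * x = 1 := by rw [← pow_two, ← hx]; exact pow_orderOf_eq_one x
  have hysq : y * y = 1 := by rw [← pow_two, ← hy]; exact pow_orderOf_eq_one y
  have hτsq : τ * τ = 1 := by rw [← pow_two, ← hτ]; exact pow_orderOf_eq_one τ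
  subst hxy
  -- `x y x y = 1`
  have e2 : x * y * x = y := by
    calc x * y * x = x * y * x * (y * y) := by rw [hysq, mul_one]
      _ = (x * y * (x * y)) * y := by group
      _ = y := by rw [hτsq, one_mul]
  calc x * y * x = y := e2
    _ = (x * x) * y := by rw [hxsq, one_mul]
    _ = x * (x * y) := by group

/-- INV : every element of `L ∖ H` is conjugate to `τ` -/
theorem nrmH_involutions [Fintype (Cfsg.IrrCharacter G)] (hS : Setting p P q t)
    (hD : CharData p P q t Xp Xm Y) (hH : Compl P q H) (τ : G) (hτH : τ ∈ H) (hτ : orderOf τ = 2)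
    (g : G) (hg : g ∈ nrmH H) (hgH : g ∉ H) : IsConj τ g := by
  have ht3 := hS.ht
  have hcnt := count_pairs hS hD hH τ hτH hτ
  obtain ⟨hcent, -, -, -⟩ := involution_values hS hD hH τ hτH hτ
  have hL := card_nrmH hS hD hH
  have hτsq : τ ^ 2 = 1 := by rw [← hτ]; exact pow_orderOf_eq_one τ
  have hHL : H ≤ nrmH H := Subgroup.le_normalizer
  set S := {pr : G × G // IsConj τ pr.1 ∧ IsConj τ pr.2 ∧ pr.1 * pr.2 = τ} with hSdef
  set FL : Finset G := Finset.univ.filter (fun x => x ∈ nrmH H) with hFL
  set FH : Finset G := Finset.univ.filter (fun x => x ∈ H) with hFH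
  have hFLc : FL.card = t * q := by
    rw [← hL, Nat.card_eq_fintype_card, hFL, Fintype.card_subtype]
  have hFHc : FH.card = q := by
    rw [← hH.card, Nat.card_eq_fintype_card, hFH, Fintype.card_subtype]
  have hsub : FH ⊆ FL := by
    intro x hx
    rw [hFH, Finset.mem_filter] at hx
    rw [hFL, Finset.mem_filter]
    exact ⟨Finset.mem_univ _, hHL hx.2⟩
  have hTc : (FL \ FH).card = (t - 1) * q := by
    rw [Finset.card_sdiff_of_subset hsub, hFLc, hFHc, Nat.sub_mul, one_mul]
  set Im : Finset G := (Finset.univ : Finset S).image (fun pr => pr.1.1) with hIm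
  have hinj : Function.Injective (fun pr : S => pr.1.1) := by
    intro a b hab
    simp only at hab
    apply Subtype.ext
    apply Prod.ext hab
    have ha : a.1.2 = a.1.1⁻¹ * τ := eq_inv_mul_of_mul_eq a.2.2.2
    have hb : b.1.2 = b.1.1⁻¹ * τ := eq_inv_mul_of_mul_eq b.2.2.2
    rw [ha, hb, hab]
  have hImc : Im.card = (t - 1) * q := by
    rw [hIm, Finset.card_image_of_injective _ hinj, Finset.card_univ, ← Nat.card_eq_fintype_card]
    exact hcnt
  have hImsub : Im ⊆ FL \ FH := by
    intro x hx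
    rw [hIm, Finset.mem_image] at hx
    obtain ⟨pr, -, rfl⟩ := hx
    obtain ⟨h1, h2, h3⟩ := pr.2
    have hx2 : orderOf pr.1.1 = 2 := by rw [brinv_orderOf h1, hτ]
    have hy2 : orderOf pr.1.2 = 2 := by rw [brinv_orderOf h2, hτ]
    rw [Finset.mem_sdiff, hFL, hFH, Finset.mem_filter, Finset.mem_filter]
    refine ⟨⟨Finset.mem_univ _, ?_⟩, ?_⟩
    · rw [← hcent, Subgroup.mem_centralizer_singleton_iff]
      exact (brinv_pair pr.1.1 pr.1.2 τ hx2 hy2 hτ h3).symm
    · rintro ⟨-, hxH⟩
      have hxτ := brinv_unique H hH.cyc pr.1.1 τ hxH hτH hx2 hτ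
      have hy1 : pr.1.2 = 1 := by
        have h7 : pr.1.2 = pr.1.1⁻¹ * τ := eq_inv_mul_of_mul_eq h3
        rw [h7, hxτ]; group
      rw [hy1, orderOf_one] at hy2
      omega
  have hIeq : Im = FL \ FH := Finset.eq_of_subset_of_card_le hImsub (by rw [hImc, hTc])
  have hgT : g ∈ FL \ FH := by
    rw [Finset.mem_sdiff, hFL, hFH, Finset.mem_filter, Finset.mem_filter]
    exact ⟨⟨Finset.mem_univ _, hg⟩, fun h => hgH h.2⟩
  rw [← hIeq, hIm, Finset.mem_image] at hgT
  obtain ⟨pr, -, hpr⟩ := hgT
  rw [← hpr]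
  exact pr.2.1

end Cfsg.Agent.Lib.helper7.BR
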