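import Mathlib
import Cfsg.Agent.Lib.helper7.BR.Defs
import Cfsg.Agent.Lib.Helper13.BRAC3
import Cfsg.Agent.Lib.Helper13.BRAC4

/-!
# Project BR, piece AC5 : the arithmetic core (with private copies `brac5_full`, `brac5_plus`,
`brac5_minus` of AC0 / AC2)
-/

set_option autoImplicit false
set_option linter.unusedVariables false

namespace Cfsg.Agent.Lib.helper7.BR

open Classical

theorem brac5_full (p w n : ℕ) (hp : 2 ≤ p) (hw : 1 ≤ w) (hn : 1 ≤ n)
    (hbig : p * (p - 1) * w * (1 + n * p) < p ^ 3) : n = 1 := by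
  by_contra hne
  have hn2 : 2 ≤ n := by omega
  obtain ⟨k, rfl⟩ : ∃ k, p = k + 1 := ⟨p - 1, by omega⟩
  have hk : 1 ≤ k := by omega
  simp only [Nat.add_sub_cancel] at hbig
  have h1 : (k + 1) * k * 1 * (1 + 2 * (k + 1)) ≤ (k + 1) * k * w * (1 + n * (k + 1)) := by
    apply Nat.mul_le_mul
    · exact Nat.mul_le_mul_left _ hw
    · have : 2 * (k + 1) ≤ n * (k + 1) := Nat.mul_le_mul_right _ hn2
      omega
  have h3 : (k + 1) * (k + 1) ≤ k * (1 + 2 * (k + 1)) := by nlinarith
  have h2 : (k + 1) ^ 3 ≤ (k + 1) * k * 1 * (1 + 2 * (k + 1)) := by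
    have : (k + 1) * ((k + 1) * (k + 1)) ≤ (k + 1) * (k * (1 + 2 * (k + 1))) :=
      Nat.mul_le_mul_left _ h3
    have e1 : (k + 1) ^ 3 = (k + 1) * ((k + 1) * (k + 1)) := by ring
    have e2 : (k + 1) * k * 1 * (1 + 2 * (k + 1)) = (k + 1) * (k * (1 + 2 * (k + 1))) := by ring
    rw [e1, e2]; exact this
  omega

theorem brac5_plus (p q n d : ℕ) (hp : p.Prime) (hq : 1 ≤ q) (hqp : q < p) (hqn : q * n < p)
    (hd : d ∣ q * (1 + n * p)) (h1 : d % p = 1) (h2 : 2 ≤ d) : d = 1 + n * p := by
  have hp2 := hp.two_le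
  obtain ⟨c, hc⟩ := hd
  obtain ⟨u, hdu⟩ : ∃ u, d = p * u + 1 := ⟨d / p, by
    have := Nat.div_add_mod d p
    rw [h1] at this
    omega⟩
  have hu1 : 1 ≤ u := by
    rcases Nat.eq_zero_or_pos u with h | h
    · rw [h] at hdu; omega
    · exact h
  -- `c ≡ q mod p`
  have hcmod : c % p = q := by
    have e1 : (q * (1 + n * p)) % p = q := by
      have : q * (1 + n * p) = q + p * (q * n) := by ring
      rw [this, Nat.add_mul_mod_self_left, Nat.mod_eq_of_lt hqp]
    have e2 : (d * c) % p = c % p := by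
      rw [hdu]
      have : (p * u + 1) * c = c + p * (u * c) := by ring
      rw [this, Nat.add_mul_mod_self_left]
    rw [← e2, ← hc, e1]
  obtain ⟨b, hcb⟩ : ∃ b, c = p * b + q := ⟨c / p, by
    have := Nat.div_add_mod c p
    rw [hcmod] at this
    omega⟩
  -- `q n = p u b + u q + b`
  have hkey : q * n = p * u * b + u * q + b := by
    have e : q * (1 + n * p) = (p * u + 1) * (p * b + q) := by rw [hc, hdu, hcb]
    have e' : p * (q * n) = p * (p * u * b + u * q + b) := by nlinarith
    exact Nat.eq_of_mul_eq_mul_left (by omega) e'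
  have hub : u * b = 0 := by
    by_contra hne
    have : 1 ≤ u * b := Nat.one_le_iff_ne_zero.mpr hne
    have : p * 1 ≤ p * (u * b) := Nat.mul_le_mul_left p this
    have e : p * u * b = p * (u * b) := by ring
    omega
  have hb0 : b = 0 := by
    rcases Nat.mul_eq_zero.mp hub with h | h
    · omega
    · exact h
  rw [hb0] at hkey
  have hun : u = n := by
    have : q * n = q * u := by rw [hkey]; ring
    exact (Nat.eq_of_mul_eq_mul_left (by omega) this).symm
  rw [hdu, hun]; ring

theorem brac5_minus (p q t n d : ℕ) (hp : p.Prime) (hqt : q * t = p - 1) (hq : 1 ≤ q) (ht : 2 ≤ t)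
    (hqn : q * n < p) (hd : d ∣ q * (1 + n * p)) (h1 : (d + 1) % p = 0) :
    d + 1 = p ∧ t ∣ n + 1 := by
  have hp2 := hp.two_le
  have hpeq : p = q * t + 1 := by omega
  have hp2q : 2 * q + 1 ≤ p := by
    have : q * 2 ≤ q * t := Nat.mul_le_mul_left q ht
    omega
  have hqp : q < p := by omega
  obtain ⟨c, hc⟩ := hd
  obtain ⟨u, hu⟩ := Nat.dvd_of_mod_eq_zero h1
  have hu1 : 1 ≤ u := by
    rcases Nat.eq_zero_or_pos u with h | h
    · rw [h] at hu; omega
    · exact h
  have hpos : 0 < q * (1 + n * p) := Nat.mul_pos (by omega) (by omega)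
  have hc1 : 1 ≤ c := by
    rcases Nat.eq_zero_or_pos c with h | h
    · rw [h, mul_zero] at hc; omega
    · exact h
  -- `c + q ≡ 0 mod p`
  have hcq : p ∣ c + q := by
    have e1 : (d + 1) * c = q * (1 + n * p) + c := by rw [hc]; ring
    have e2 : p ∣ (d + 1) * c := Dvd.dvd.mul_right ⟨u, hu⟩ c
    rw [e1] at e2
    have e3 : q * (1 + n * p) + c = (c + q) + p * (q * n) := by ring
    rw [e3] at e2
    exact (Nat.dvd_add_left (Dvd.intro _ rfl)).mp e2
  obtain ⟨b, hb⟩ := hcq
  have hb1 : 1 ≤ b := by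
    rcases Nat.eq_zero_or_pos b with h | h
    · rw [h] at hb; omega
    · exact h
  -- `p u b = q n + u q + b`
  have hkey : p * u * b = q * n + u * q + b := by
    have e : (d + 1) * (c + q) = q * (1 + n * p) + d * q + c + q := by rw [hc]; ring
    rw [hu, hb] at e
    have hdq : d * q + q = p * u * q := by
      have : (d + 1) * q = p * u * q := by rw [hu]
      nlinarith
    have e' : p * (p * u * b) = p * (q * n + u * q + b) := by nlinarith
    exact Nat.eq_of_mul_eq_mul_left (by omega) e'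
  have hu_eq : u = 1 := by
    by_contra hne
    have hu2 : 2 ≤ u := by omega
    have hkeyZ : (p : ℤ) * u * b = (q : ℤ) * n + u * q + b := by exact_mod_cast hkey
    have hqnZ : (q : ℤ) * n < p := by exact_mod_cast hqn
    have hp2qZ : 2 * (q : ℤ) + 1 ≤ p := by exact_mod_cast hp2q
    have hbZ : (1 : ℤ) ≤ b := by exact_mod_cast hb1
    have huZ : (2 : ℤ) ≤ u := by exact_mod_cast hu2
    have hqZ : (1 : ℤ) ≤ q := by exact_mod_cast hq
    have h3 : (0 : ℤ) ≤ ((b : ℤ) - 1) * ((p : ℤ) * u - 1) :=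
      mul_nonneg (by linarith) (by nlinarith)
    have h4 : (0 : ℤ) ≤ ((u : ℤ) - 2) * ((p : ℤ) - q) := mul_nonneg (by linarith) (by linarith)
    nlinarith
  rw [hu_eq, mul_one] at hu
  refine ⟨hu, ?_⟩
  rw [hu_eq] at hkey
  -- `b (p - 1) = q (n + 1)`
  have e : q * (b * t) = q * (n + 1) := by
    have : p * b = q * n + q + b := by nlinarith
    rw [hpeq] at this
    nlinarith
  have := Nat.eq_of_mul_eq_mul_left (by omega) e
  exact ⟨b, by rw [← this]; ring⟩


/-- `t ∣ n + 1`, `n ≤ t`, `t ≥ 2`, `n ≥ 1` ⟹ `n + 1 = t` -/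
theorem brac5_eq (t n : ℕ) (ht : 2 ≤ t) (hn : 1 ≤ n) (hnt : n ≤ t) (hdvd : t ∣ n + 1) : n + 1 = t := by
  obtain ⟨k, hk⟩ := hdvd
  have hk1 : 1 ≤ k := by
    rcases Nat.eq_zero_or_pos k with h | h
    · rw [h] at hk; omega
    · exact h
  have hk2 : k < 2 := by
    by_contra hcon
    push Not at hcon
    have : t * 2 ≤ t * k := Nat.mul_le_mul_left t hcon
    omega
  have : k = 1 := by omega
  rw [this] at hk
  omega

/-- AC5 : the arithmetic core. -/
theorem arith_core {ι : Type*} (X : Finset ι) (triv : ι) (htriv : triv ∈ X) (a : ι → ℤ) (d : ι → ℕ)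
    (p q w n t z : ℕ) (ε : ℤ) (hp : p.Prime) (hqt : q * t = p - 1) (hq : 2 ≤ q) (ht : 2 ≤ t)
    (hn : 1 ≤ n) (hw : 1 ≤ w) (hbig : p * q * w * (1 + n * p) < p ^ 3)
    (hcard : X.card = q)
    (ha : ∀ i ∈ X, a i = 1 ∨ a i = -1) (hatriv : a triv = 1) (hdtriv : d triv = 1)
    (hdvd : ∀ i ∈ X, d i ∣ q * (1 + n * p))
    (hcong : ∀ i ∈ X, (p : ℤ) ∣ (d i : ℤ) - a i)
    (hge : ∀ i ∈ X, i ≠ triv → 2 ≤ d i)
    (hε : ε = 1 ∨ ε = -1) (hzdvd : z ∣ q * (1 + n * p)) (hzcong : (p : ℤ) ∣ (z : ℤ) - ε * (q : ℤ))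
    (hdeg : ε * (z : ℤ) = ∑ i ∈ X, a i * (d i : ℤ))
    (hsq : ∑ i ∈ X, (d i) ^ 2 + t * z ^ 2 ≤ p * q * w * (1 + n * p)) :
    n = 1 ∨ (w = 1 ∧ n + 1 = t ∧ ((ε = 1 ∧ z = q) ∨ (ε = -1 ∧ z + q = p ∧
      (∀ i ∈ X, i ≠ triv → (a i = 1 ∧ d i = 1 + n * p) ∨ (a i = -1 ∧ d i + 1 = p)) ∧
      (X.filter (fun i => i ≠ triv ∧ a i = 1)).card * t + 2 = q))) := by
  have hp2 : 2 ≤ p := hp.two_le
  have hpeq : p = q * t + 1 := by omega
  have hqp : q < p := by nlinarith
  have hq1 : 1 ≤ q := by omega
  -- `q w n < p`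
  have h1 : q * w * (1 + n * p) < p * p := by
    have h := hbig
    have e : p * q * w * (1 + n * p) = p * (q * w * (1 + n * p)) := by ring
    have e' : p ^ 3 = p * (p * p) := by ring
    rw [e, e'] at h
    exact Nat.lt_of_mul_lt_mul_left h
  have hqwn : q * w * n < p := by
    have e : q * w * n * p ≤ q * w * (1 + n * p) := by nlinarith
    have : q * w * n * p < p * p := lt_of_le_of_lt e h1
    nlinarith
  have hqn : q * n < p := by
    have : q * n ≤ q * w * n := by
      have h1' : q * n * 1 ≤ q * n * w := Nat.mul_le_mul_left (q * n) hw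
      have h2' : q * n * w = q * w * n := by ring
      omega
    omega
  have hwn : w * n ≤ t := by
    have h2 : q * (w * n) < q * t + 1 := by
      have : q * (w * n) = q * w * n := by ring
      omega
    have h3 : q * (w * n) ≤ q * t := by omega
    exact Nat.le_of_mul_le_mul_left h3 (by omega)
  have hnt : n ≤ t := le_trans (Nat.le_mul_of_pos_left n (by omega)) hwn
  have hwt : w ≤ t := le_trans (Nat.le_mul_of_pos_right w (by omega)) hwn
  -- classification of the non-exceptional degrees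
  have hcls : ∀ i ∈ X, i ≠ triv → (a i = 1 ∧ d i = 1 + n * p) ∨ (a i = -1 ∧ d i + 1 = p ∧ t ∣ n + 1) := by
    intro i hi hit
    have hd2 := hge i hi hit
    rcases ha i hi with h | h
    · left
      refine ⟨h, ?_⟩
      have hc := hcong i hi
      rw [h] at hc
      have hmod : d i % p = 1 := by
        have h1' : ((d i - 1 : ℕ) : ℤ) = (d i : ℤ) - 1 := by
          rw [Nat.cast_sub (by omega)]; simp
        have h2' : (p : ℤ) ∣ ((d i - 1 : ℕ) : ℤ) := by rw [h1']; exact hc
        have h3' : p ∣ d i - 1 := by exact_mod_cast h2'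
        obtain ⟨k, hk⟩ := h3'
        have : d i = p * k + 1 := by omega
        rw [this, Nat.mul_add_mod]
        exact Nat.mod_eq_of_lt (by omega)
      exact brac5_plus p q n (d i) hp hq1 hqp hqn (hdvd i hi) hmod hd2
    · right
      refine ⟨h, ?_⟩
      have hc := hcong i hi
      rw [h] at hc
      have hmod : (d i + 1) % p = 0 := by
        have h2' : (p : ℤ) ∣ ((d i + 1 : ℕ) : ℤ) := by
          have : ((d i + 1 : ℕ) : ℤ) = (d i : ℤ) - -1 := by push_cast; ring
          rw [this]; exact hc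
        have h3' : p ∣ d i + 1 := by exact_mod_cast h2'
        exact Nat.mod_eq_zero_of_dvd h3'
      exact brac5_minus p q t n (d i) hp hqt hq1 ht hqn (hdvd i hi) hmod
  -- counts
  set XA := X.filter (fun i => i ≠ triv ∧ a i = 1) with hXA
  set XB := X.filter (fun i => a i = -1) with hXB
  have hsplit : ∀ f : ι → ℤ, ∑ i ∈ X, f i = f triv + ∑ i ∈ XA, f i + ∑ i ∈ XB, f i := by
    intro f
    have e1 : ∑ i ∈ X, f i = ∑ i ∈ X, ((if i = triv then f i else 0) +
        (if i ≠ triv ∧ a i = 1 then f i else 0) + (if a i = -1 then f i else 0)) := by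
      refine Finset.sum_congr rfl fun i hi => ?_
      by_cases hit : i = triv
      · subst hit
        have : ¬ a i = -1 := by rw [hatriv]; norm_num
        simp [this]
      · rcases ha i hi with h | h
        · have : ¬ a i = -1 := by rw [h]; norm_num
          simp [hit, h]
        · have : ¬ a i = 1 := by rw [h]; norm_num
          simp [hit, h]
    rw [e1, Finset.sum_add_distrib, Finset.sum_add_distrib, ← Finset.sum_filter, ← Finset.sum_filter,
      ← Finset.sum_filter, Finset.filter_eq' X triv, if_pos htriv, Finset.sum_singleton]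
  have hcount : (1 : ℤ) + (XA.card : ℤ) + (XB.card : ℤ) = (q : ℤ) := by
    have := hsplit (fun _ => 1)
    simp only [Finset.sum_const, nsmul_eq_mul, mul_one] at this
    rw [hcard] at this
    linarith
  have hdegA : ∑ i ∈ XA, a i * (d i : ℤ) = (XA.card : ℤ) * (1 + n * p : ℤ) := by
    rw [Finset.sum_congr rfl (g := fun _ => (1 + n * p : ℤ))]
    · rw [Finset.sum_const, nsmul_eq_mul]
    · intro i hi
      rw [hXA, Finset.mem_filter] at hi
      rcases hcls i hi.1 hi.2.1 with h | h
      · rw [h.1, h.2]; push_cast; ring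
      · rw [h.1] at hi; norm_num at hi
  have hdegB : ∑ i ∈ XB, a i * (d i : ℤ) = -((XB.card : ℤ) * ((p : ℤ) - 1)) := by
    rw [Finset.sum_congr rfl (g := fun _ => -((p : ℤ) - 1))]
    · rw [Finset.sum_const, nsmul_eq_mul]; ring
    · intro i hi
      rw [hXB, Finset.mem_filter] at hi
      have hit : i ≠ triv := by
        intro h; rw [h, hatriv] at hi; norm_num at hi
      rcases hcls i hi.1 hit with h | h
      · rw [h.1] at hi; norm_num at hi
      · rw [h.1]
        have : (d i : ℤ) = (p : ℤ) - 1 := by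
          have := h.2.1
          have h' : ((d i + 1 : ℕ) : ℤ) = (p : ℤ) := by exact_mod_cast this
          push_cast at h'; linarith
        rw [this]; ring
  have hdeg' : ε * (z : ℤ) = 1 + (XA.card : ℤ) * (1 + n * p : ℤ) - (XB.card : ℤ) * ((p : ℤ) - 1) := by
    rw [hdeg, hsplit, hdegA, hdegB, hatriv, hdtriv]; push_cast; ring
  -- if `XB` is non-empty then `t ∣ n + 1`
  have hBdvd : 1 ≤ XB.card → t ∣ n + 1 := by
    intro hB
    obtain ⟨i, hi⟩ := Finset.card_pos.mp hB
    rw [hXB, Finset.mem_filter] at hi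
    have hit : i ≠ triv := by
      intro h; rw [h, hatriv] at hi; norm_num at hi
    rcases hcls i hi.1 hit with h | h
    · rw [h.1] at hi; norm_num at hi
    · exact h.2.2
  -- the endgame: `t ∣ n + 1` gives `n = 1` or `w = 1 ∧ n + 1 = t`
  have hend : t ∣ n + 1 → n = 1 ∨ (w = 1 ∧ n + 1 = t) := by
    intro hd
    have hnt1 := brac5_eq t n ht hn hnt hd
    by_cases hn1 : n = 1
    · exact Or.inl hn1
    · right
      refine ⟨?_, hnt1⟩
      by_contra hw1
      have hw2 : 2 ≤ w := by omega
      have : 2 * n ≤ w * n := Nat.mul_le_mul_right n hw2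
      omega
  have hpZ : (p : ℤ) = (q : ℤ) * (t : ℤ) + 1 := by exact_mod_cast hpeq
  have hz0 : 0 < z := by
    rcases Nat.eq_zero_or_pos z with h | h
    · rw [h] at hzdvd
      have := Nat.eq_zero_of_zero_dvd hzdvd
      have h5 : 0 < q * (1 + n * p) := Nat.mul_pos (by omega) (by omega)
      omega
    · exact h
  rcases hε with hε1 | hε1
  · -- `ε = 1`
    rw [hε1] at hzcong hdeg'
    have hmod : z % p = q := by
      have h1' : (p : ℤ) ∣ (z : ℤ) - (q : ℤ) := by simpa using hzcong
      have h3' : q ≡ z [MOD p] := (Nat.modEq_iff_dvd).mpr h1'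
      have h4' : z % p = q % p := h3'.symm
      rw [h4', Nat.mod_eq_of_lt hqp]
    rcases ac_exc_plus p q n z hp hq1 hqp hqn hzdvd hmod with hzq | hzD
    · -- `z = q`
      have e1 : (XA.card : ℤ) * ((n : ℤ) * p) = (XB.card : ℤ) * p := by
        rw [hzq] at hdeg'
        linear_combination -hdeg' - hcount
      have hp0 : (p : ℤ) ≠ 0 := by exact_mod_cast (by omega : p ≠ 0)
      have e2 : (XA.card : ℤ) * (n : ℤ) = (XB.card : ℤ) := by
        have : ((XA.card : ℤ) * (n : ℤ) - (XB.card : ℤ)) * p = 0 := by linear_combination e1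
        rcases mul_eq_zero.mp this with h | h
        · linarith
        · exact absurd h hp0
      have e3 : XA.card * n = XB.card := by exact_mod_cast e2
      have hA : 1 ≤ XA.card := by
        by_contra hcon
        have hA0 : XA.card = 0 := by omega
        rw [hA0] at e3
        have hB0 : XB.card = 0 := by omega
        rw [hA0, hB0] at hcount
        have : (q : ℤ) = 1 := by push_cast at hcount; linarith
        have : q = 1 := by exact_mod_cast this
        omega
      have hB : 1 ≤ XB.card := by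
        rw [← e3]; exact Nat.mul_pos hA hn
      rcases hend (hBdvd hB) with h | ⟨h, h'⟩
      · exact Or.inl h
      · exact Or.inr ⟨h, h', Or.inl ⟨hε1, hzq⟩⟩
    · -- `z = q (1 + n p)` contradicts the squares
      exfalso
      have hsq' : t * z ^ 2 ≤ p * q * w * (1 + n * p) := le_trans (Nat.le_add_left _ _) hsq
      rw [hzD] at hsq'
      have e1 : t * (q * (1 + n * p)) ^ 2 = (q * (1 + n * p)) * ((q * t) * (1 + n * p)) := by ring
      have e2 : p * q * w * (1 + n * p) = (q * (1 + n * p)) * (p * w) := by ring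
      rw [e1, e2] at hsq'
      have h5 : 0 < q * (1 + n * p) := Nat.mul_pos (by omega) (by omega)
      have h6 : (q * t) * (1 + n * p) ≤ p * w := Nat.le_of_mul_le_mul_left hsq' h5
      have h7 : 2 * t ≤ q * t := Nat.mul_le_mul_right t hq
      have h8 : p * w ≤ p * t := Nat.mul_le_mul_left p hwt
      have h9 : (q * t) * (1 + p) ≤ (q * t) * (1 + n * p) := by
        apply Nat.mul_le_mul_left
        nlinarith
      nlinarith
  · -- `ε = -1`
    rw [hε1] at hzcong hdeg'
    have hmod : (z + q) % p = 0 := by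
      have h1' : (p : ℤ) ∣ ((z + q : ℕ) : ℤ) := by
        have : ((z + q : ℕ) : ℤ) = (z : ℤ) - -1 * (q : ℤ) := by push_cast; ring
        rw [this]; exact hzcong
      have h3' : p ∣ z + q := by exact_mod_cast h1'
      exact Nat.mod_eq_zero_of_dvd h3'
    -- `t ∣ n + 1` in both cases
    have hkey : t ∣ n + 1 := by
      rcases ac_exc_minus p q t n z hp hqt hq1 ht hn hqn hzdvd hmod with hzq | ⟨hd, -⟩
      · apply hBdvd
        by_contra hcon
        have hB0 : XB.card = 0 := by omega
        rw [hB0] at hdeg'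
        have hzpos : (0 : ℤ) < z := by exact_mod_cast hz0
        have hnn1 : (0 : ℤ) ≤ (XA.card : ℤ) := Int.natCast_nonneg _
        have hnn2 : (0 : ℤ) ≤ (1 + n * p : ℤ) := by
          have : (0 : ℤ) ≤ ((1 + n * p : ℕ) : ℤ) := Int.natCast_nonneg _
          push_cast at this; exact this
        have hnonneg : (0 : ℤ) ≤ (XA.card : ℤ) * (1 + n * p : ℤ) := mul_nonneg hnn1 hnn2
        rw [Nat.cast_zero, zero_mul, sub_zero] at hdeg'
        linarith
      · exact hd
    have hnt1 := brac5_eq t n ht hn hnt hkey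
    have hzq : z + q = p := by
      rcases ac_exc_minus p q t n z hp hqt hq1 ht hn hqn hzdvd hmod with hzq | ⟨-, hz2⟩
      · exact hzq
      · -- `z (p - 1) = q (1 + (t-1) p) = (p - 1)(p - q)`
        have e : q * (1 + n * p) = (p - 1) * (p - q) := by
          have ht' : t = n + 1 := hnt1.symm
          have hp' : p = q * (n + 1) + 1 := by rw [hpeq, ht']
          have e1 : p - 1 = q * (n + 1) := by rw [hp']; simp
          have e2 : p - q = q * n + 1 := by
            rw [hp']
            have : q * (n + 1) + 1 = (q * n + 1) + q := by ring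
            rw [this]; simp
          rw [e1, e2, hp']; ring
        rw [e, mul_comm] at hz2
        have hp1 : 0 < p - 1 := by omega
        have := Nat.eq_of_mul_eq_mul_left hp1 hz2
        omega
    rcases hend hkey with h | ⟨h, h'⟩
    · exact Or.inl h
    · refine Or.inr ⟨h, h', Or.inr ⟨hε1, hzq, ?_, ?_⟩⟩
      · intro i hi hit
        rcases hcls i hi hit with h1 | h1
        · exact Or.inl h1
        · exact Or.inr ⟨h1.1, h1.2.1⟩
      · -- `A t + 2 = q`
        have hzZ : (z : ℤ) = (p : ℤ) - (q : ℤ) := by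
          have : ((z + q : ℕ) : ℤ) = (p : ℤ) := by exact_mod_cast hzq
          push_cast at this; linarith
        have hnZ : (n : ℤ) = (t : ℤ) - 1 := by
          have : ((n + 1 : ℕ) : ℤ) = (t : ℤ) := by exact_mod_cast h'
          push_cast at this; linarith
        have hp0 : (p : ℤ) ≠ 0 := by exact_mod_cast (by omega : p ≠ 0)
        have e : ((q : ℤ) - 2 - (XA.card : ℤ) * t) * p = 0 := by
          rw [hzZ, hnZ] at hdeg'
          have hB : (XB.card : ℤ) = (q : ℤ) - 1 - (XA.card : ℤ) := by linarith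
          rw [hB] at hdeg'
          linear_combination hdeg'
        rcases mul_eq_zero.mp e with h5 | h5
        · have : ((XA.card * t + 2 : ℕ) : ℤ) = (q : ℤ) := by push_cast; linarith
          exact_mod_cast this
        · exact absurd h5 hp0

end Cfsg.Agent.Lib.helper7.BR
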