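import Mathlib
import Cfsg.Agent.Lib.helper7.BR.Defs
import Cfsg.Agent.Lib.helper7.BR.AC5
import Cfsg.Agent.Lib.Helper10.BHPB
import Cfsg.Agent.Lib.Helper16.BRSET1
import Cfsg.Agent.Lib.Helper16.BRSET2
import Cfsg.Agent.Lib.Helper1.BRSET3
import Cfsg.Agent.Lib.helper23.BRCLS
import Cfsg.Agent.Lib.helper23.BRCARDY
import Cfsg.Agent.Lib.helper23.BRDIV
import Cfsg.Agent.Lib.helper23.BRCONG
import Cfsg.Agent.Lib.helper23.BRPERF
import Cfsg.Agent.Lib.helper23.BRSQ
import Cfsg.Agent.Lib.helper2.CharInt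
import Cfsg.Agent.Lib.helper2.CharNat

/-!
# Project BR, piece FRONT : assembly of wave 1
-/

set_option autoImplicit false
set_option linter.unusedVariables false
set_option linter.unusedSectionVars false
set_option linter.style.haveILetI false

namespace Cfsg.Agent.Lib.helper7.BR

open Classical
open Cfsg.Agent.Lib.Helper25 Cfsg.Agent.Lib.helper2 Cfsg.Agent.Lib.helper15.BH

universe u

variable {G : Type u} [Group G] [Fintype G] {p : ℕ} [Fact p.Prime]

/-- the degree of an irreducible character, as a natural number -/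
noncomputable def brfrontDeg (χ : Cfsg.IrrCharacter G) : ℕ := Classical.choose (irr_degree_dvd_card χ)

theorem brfrontDeg_spec (χ : Cfsg.IrrCharacter G) :
    0 < brfrontDeg χ ∧ (χ : G → ℂ) 1 = (brfrontDeg χ : ℂ) :=
  ⟨(Classical.choose_spec (irr_degree_dvd_card χ)).1, (Classical.choose_spec (irr_degree_dvd_card χ)).2.1⟩

/-- there is a non-trivial element in `P` -/
theorem brfront_exists (P : Sylow p G) (hP : Nat.card ↥(P : Subgroup G) = p) :
    ∃ x : G, x ∈ (P : Subgroup G) ∧ x ≠ 1 := by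
  have hpp := (Fact.out : p.Prime)
  by_contra hcon
  push Not at hcon
  have : Nat.card ↥(P : Subgroup G) ≤ 1 := by
    rw [Nat.card_eq_fintype_card, Fintype.card_le_one_iff]
    intro a b
    apply Subtype.ext
    rw [hcon a a.2, hcon b b.2]
  have := hpp.two_le
  omega

/-- FRONT : `n = 1`, or a small-degree character non-trivial on `P`, or the setting of wave 2. -/
theorem front (hperf : commutator G = ⊤) (hdvd : p ∣ Nat.card G) (hbig : Nat.card G < p ^ 3)
    (P : Sylow p G) (hPn : ¬ (P : Subgroup G).Normal) :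
    Nat.card ↥(P : Subgroup G) = p ∧
    ((nrm P).index = 1 + p ∨
    (∃ (θ : Cfsg.IrrCharacter G) (d : ℕ), (θ : G → ℂ) 1 = (d : ℂ) ∧ 2 * d + 1 < p ∧
      ∃ x ∈ (P : Subgroup G), (θ : G → ℂ) x ≠ (θ : G → ℂ) 1) ∨
    (∃ (q t : ℕ) (Xp Xm Y : Finset (Cfsg.IrrCharacter G)),
      Setting p P q t ∧ CharData p P q t Xp Xm Y)) := by
  have hpp := (Fact.out : p.Prime)
  have hP := card_sylow_eq hdvd hbig P hPn
  refine ⟨hP, ?_⟩
  obtain ⟨q, w, n, hqdvd, hq1, hw, hn, hrel, hcC, hcN, hidx, hcidx, hcG⟩ := order_formula P hP hPn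
  have hq2 : 2 ≤ q := by
    have := relIndex_ne_one hperf P hP
    rw [hrel] at this
    omega
  rw [hcG] at hbig
  have hp2 := hpp.two_le
  have hqle : q ≤ p - 1 := Nat.le_of_dvd (by omega) hqdvd
  by_cases hfull : q = p - 1
  · left
    have : n = 1 := brac5_full p w n hp2 hw hn (by rw [← hfull]; exact hbig)
    rw [hidx, this, one_mul]
  have hqlt : q + 1 < p := by omega
  obtain ⟨X, Y, a, ε, hXcard, hYne, htrivX, hXa, hε, hYsum, hYval, hYdeg⟩ :=
    pb_values P hP q hrel (by omega) hqlt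
  obtain ⟨t, ht⟩ := hqdvd
  have hqt : q * t = p - 1 := ht.symm
  have ht2 : 2 ≤ t := by
    by_contra hcon
    have : t ≤ 1 := by omega
    have : q * t ≤ q * 1 := Nat.mul_le_mul_left q this
    omega
  obtain ⟨x₀, hx₀, hx₀1⟩ := brfront_exists P hP
  have hsing : ∀ x ∈ (P : Subgroup G), x ≠ 1 → p ∣ orderOf x := fun x hx hx1 =>
    dvd_orderOf_of_mem P x hx hx1
  -- values on `P ∖ 1`
  have hXval : ∀ χ ∈ X, ∀ x ∈ (P : Subgroup G), x ≠ 1 → (χ : G → ℂ) x = (a χ : ℂ) :=
    fun χ hχ x hx hx1 => (hXa χ hχ).2 x (hsing x hx hx1)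
  have hYval' : ∀ x ∈ (P : Subgroup G), x ≠ 1 → ∑ η ∈ Y, (η : G → ℂ) x = -(ε : ℂ) :=
    fun x hx hx1 => hYval x (hsing x hx hx1)
  -- `a` at the trivial character
  have hatriv : a (trivIrr G) = 1 := by
    have := hXval (trivIrr G) htrivX x₀ hx₀ hx₀1
    rw [trivIrr_apply] at this
    have h' : ((1 : ℤ) : ℂ) = ((a (trivIrr G) : ℤ) : ℂ) := by rw [← this]; simp
    exact_mod_cast h'.symm
  have hdtriv : brfrontDeg (trivIrr G) = 1 := by
    have := (brfrontDeg_spec (trivIrr G)).2
    rw [trivIrr_apply] at this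
    exact_mod_cast this.symm
  -- the exceptional degree
  obtain ⟨η₀, hη₀⟩ := hYne
  set z := brfrontDeg η₀ with hz
  have hzall : ∀ η ∈ Y, (η : G → ℂ) 1 = (z : ℂ) := by
    intro η hη
    have h1 := hYdeg η hη
    have h2 := hYdeg η₀ hη₀
    rw [← h2] at h1
    have hε0 : (ε : ℂ) ≠ 0 := by
      rcases hε with h | h <;> rw [h] <;> norm_num
    have := mul_left_cancel₀ hε0 h1
    rw [this, (brfrontDeg_spec η₀).2]
  -- disjointness
  have hdisjXY : ∀ χ ∈ X, χ ∉ Y := by
    intro χ hχ hχY
    exact not_const_of_sum P hP (χ : G → ℂ) (a χ) (hXa χ hχ).1 (hXval χ hχ) ε hε q hqlt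
      (hYsum χ hχY)
  have hcardY : Y.card = t := by
    have := card_Y_mul P hP Y ε hε q hYsum hYval'
    rw [← hqt, mul_comm] at this
    exact Nat.eq_of_mul_eq_mul_left (by omega) this
  -- the hypotheses of the arithmetic core
  have hdvdX : ∀ χ ∈ X, brfrontDeg χ ∣ q * (1 + n * p) := by
    intro χ hχ
    rw [← hcidx]
    exact deg_dvd_of_pm_one P hP χ (a χ) (hXa χ hχ).1 x₀ hx₀ hx₀1 (hXval χ hχ x₀ hx₀ hx₀1) _
      (brfrontDeg_spec χ).2
  have hcongX : ∀ χ ∈ X, (p : ℤ) ∣ (brfrontDeg χ : ℤ) - a χ := by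
    intro χ hχ
    exact deg_congr_of_const P hP (χ : G → ℂ) (isCharacter_of_irr χ) (a χ) (hXval χ hχ) _
      (brfrontDeg_spec χ).2
  have hgeX : ∀ χ ∈ X, χ ≠ trivIrr G → 2 ≤ brfrontDeg χ := by
    intro χ hχ hne
    obtain ⟨d, hd2, hd⟩ := deg_ge_two hperf χ hne
    have := (brfrontDeg_spec χ).2
    rw [hd] at this
    have : d = brfrontDeg χ := by exact_mod_cast this
    omega
  have hzdvd : z ∣ q * (1 + n * p) := by
    rw [← hcidx]
    exact exc_deg_dvd P hP Y z hzall ε hε x₀ hx₀ hx₀1 (hYval' x₀ hx₀ hx₀1)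
  have hzcong : (p : ℤ) ∣ (z : ℤ) - ε * (q : ℤ) :=
    deg_congr_of_sum P hP (η₀ : G → ℂ) (isCharacter_of_irr η₀) ε q z (hzall η₀ hη₀) (hYsum η₀ hη₀)
  have hdeg : ε * (z : ℤ) = ∑ χ ∈ X, a χ * (brfrontDeg χ : ℤ) := by
    have h1 := hYdeg η₀ hη₀
    rw [hzall η₀ hη₀] at h1
    have h2 : ∑ χ ∈ X, (a χ : ℂ) * (χ : G → ℂ) 1 =
        ((∑ χ ∈ X, a χ * (brfrontDeg χ : ℤ) : ℤ) : ℂ) := by
      push_cast
      refine Finset.sum_congr rfl fun χ _ => ?_
      rw [(brfrontDeg_spec χ).2]
    rw [h2] at h1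
    exact_mod_cast h1
  have hsq : ∑ χ ∈ X, (brfrontDeg χ) ^ 2 + t * z ^ 2 ≤ p * q * w * (1 + n * p) := by
    have hdisj : Disjoint X Y := by
      rw [Finset.disjoint_left]
      exact hdisjXY
    have h1 := sum_sq_le (X ∪ Y) brfrontDeg (fun χ _ => (brfrontDeg_spec χ).2)
    rw [Finset.sum_union hdisj, hcG] at h1
    have h2 : ∑ χ ∈ Y, (brfrontDeg χ) ^ 2 = t * z ^ 2 := by
      rw [Finset.sum_congr rfl (g := fun _ => z ^ 2), Finset.sum_const, hcardY, smul_eq_mul]
      intro η hη
      have := (brfrontDeg_spec η).2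
      rw [hzall η hη] at this
      have : z = brfrontDeg η := by exact_mod_cast this
      rw [this]
    rw [h2] at h1
    exact h1
  have hmain := arith_core X (trivIrr G) htrivX a brfrontDeg p q w n t z ε hpp hqt hq2 ht2 hn hw hbig
    hXcard (fun χ hχ => (hXa χ hχ).1) hatriv hdtriv hdvdX hcongX hgeX hε hzdvd hzcong hdeg hsq
  rcases hmain with h1 | ⟨hw1, hnt, hcase⟩
  · left
    rw [hidx, h1, one_mul]
  by_cases ht3 : t = 2
  · left
    have : n = 1 := by omega
    rw [hidx, this, one_mul]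
  have ht3' : 3 ≤ t := by omega
  have hpeq : p = q * t + 1 := by omega
  right
  rcases hcase with ⟨hε1, hzq⟩ | ⟨hε1, hzq, hcls, hcount⟩
  · -- the small-degree branch
    left
    refine ⟨η₀, z, hzall η₀ hη₀, ?_, ?_⟩
    · rw [hzq]
      have : q * 3 ≤ q * t := Nat.mul_le_mul_left q ht3'
      omega
    · by_contra hcon
      push Not at hcon
      have h1 := hYsum η₀ hη₀
      rw [hε1, hzall η₀ hη₀, hzq] at h1
      have h2 : ∑ x : ↥(P : Subgroup G), (η₀ : G → ℂ) (x : G) =
          ∑ x : ↥(P : Subgroup G), (q : ℂ) := by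
        refine Finset.sum_congr rfl fun x _ => ?_
        rw [hcon x x.2, hzall η₀ hη₀, hzq]
      rw [h2, Finset.sum_const, Finset.card_univ, ← Nat.card_eq_fintype_card, hP] at h1
      have h3 : ((p * q : ℕ) : ℂ) = 0 := by
        push_cast
        rw [nsmul_eq_mul] at h1
        rw [h1]; push_cast; ring
      have h4 : p * q = 0 := by exact_mod_cast h3
      have : 0 < p * q := Nat.mul_pos (by omega) (by omega)
      omega
  · -- the setting of wave 2
    right
    have hn' : n = t - 1 := by omega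
    have hPle : (P : Subgroup G) ≤ cen P := by
      haveI : IsCyclic ↥(P : Subgroup G) := isCyclic_of_prime_card hP
      intro x hx
      rw [Subgroup.mem_centralizer_iff]
      intro y hy
      have hc : (⟨y, hy⟩ : ↥(P : Subgroup G)) * ⟨x, hx⟩ = ⟨x, hx⟩ * ⟨y, hy⟩ :=
        (IsCyclic.commGroup (α := ↥(P : Subgroup G))).mul_comm _ _
      exact congrArg Subtype.val hc
    have hcen : cen P = (P : Subgroup G) := by
      symm
      apply Subgroup.eq_of_le_of_card_ge hPle
      rw [hcC, hw1, hP, mul_one]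
    have hS : Setting p P q t :=
      { prime := hpp
        cardP := hP
        cent := hcen
        cardN := by rw [hcN, hw1, mul_one]
        index := by rw [hidx, hn']
        qt := hqt
        ht := ht3'
        hq := hq2 }
    set Xp := X.filter (fun χ => χ ≠ trivIrr G ∧ a χ = 1) with hXp
    set Xm := X.filter (fun χ => a χ = -1) with hXm
    refine ⟨q, t, Xp, Xm, Y, hS, ?_⟩
    have hdegc : ∀ χ : Cfsg.IrrCharacter G, ∀ m : ℕ, brfrontDeg χ = m → (χ : G → ℂ) 1 = (m : ℂ) := by
      intro χ m hm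
      rw [← hm]; exact (brfrontDeg_spec χ).2
    refine
      { triv_notMem := ?_
        disj := ?_
        card_X := ?_
        card_Y := hcardY
        count := by rw [hXp]; convert hcount
        deg_Xp := ?_
        val_Xp := ?_
        deg_Xm := ?_
        val_Xm := ?_
        deg_Y := ?_
        sum_Y := ?_
        sum_over_Y := ?_ }
    · refine ⟨?_, ?_, hdisjXY _ htrivX⟩
      · rw [hXp, Finset.mem_filter]; tauto
      · rw [hXm, Finset.mem_filter, hatriv]; norm_num
    · refine ⟨?_, ?_, ?_⟩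
      · rw [Finset.disjoint_left]
        intro χ h1 h2
        rw [hXp, Finset.mem_filter] at h1
        rw [hXm, Finset.mem_filter] at h2
        rw [h1.2.2] at h2
        norm_num at h2
      · rw [Finset.disjoint_left]
        intro χ h1
        rw [hXp, Finset.mem_filter] at h1
        exact hdisjXY χ h1.1
      · rw [Finset.disjoint_left]
        intro χ h1
        rw [hXm, Finset.mem_filter] at h1
        exact hdisjXY χ h1.1
    · -- `|Xp| + |Xm| + 1 = q`
      have h1 : X = insert (trivIrr G) (Xp ∪ Xm) := by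
        ext χ
        rw [Finset.mem_insert, Finset.mem_union, hXp, hXm, Finset.mem_filter, Finset.mem_filter]
        constructor
        · intro hχ
          by_cases h : χ = trivIrr G
          · exact Or.inl h
          · rcases (hXa χ hχ).1 with h' | h'
            · exact Or.inr (Or.inl ⟨hχ, h, h'⟩)
            · exact Or.inr (Or.inr ⟨hχ, h'⟩)
        · rintro (h | h | h)
          · rw [h]; exact htrivX
          · exact h.1
          · exact h.1
      have h2 : trivIrr G ∉ Xp ∪ Xm := by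
        rw [Finset.mem_union, hXp, hXm, Finset.mem_filter, Finset.mem_filter, hatriv]
        rintro (h | h)
        · exact h.2.1 rfl
        · norm_num at h
      have h3 : Disjoint Xp Xm := by
        rw [Finset.disjoint_left]
        intro χ h1 h2
        rw [hXp, Finset.mem_filter] at h1
        rw [hXm, Finset.mem_filter] at h2
        rw [h1.2.2] at h2
        norm_num at h2
      rw [← hXcard, h1, Finset.card_insert_of_notMem h2, Finset.card_union_of_disjoint h3]
    · intro χ hχ
      rw [hXp, Finset.mem_filter] at hχ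
      rcases hcls χ hχ.1 hχ.2.1 with h | h
      · rw [hdegc χ _ h.2, hn']
      · rw [hχ.2.2] at h; norm_num at h
    · intro χ hχ x hx hx1
      rw [hXp, Finset.mem_filter] at hχ
      rw [hXval χ hχ.1 x hx hx1, hχ.2.2]; simp
    · intro χ hχ
      rw [hXm, Finset.mem_filter] at hχ
      have hne : χ ≠ trivIrr G := by
        intro h; rw [h, hatriv] at hχ; norm_num at hχ
      rcases hcls χ hχ.1 hne with h | h
      · rw [hχ.2] at h; norm_num at h
      · exact hdegc χ _ (by omega)
    · intro χ hχ x hx hx1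
      rw [hXm, Finset.mem_filter] at hχ
      rw [hXval χ hχ.1 x hx hx1, hχ.2]; simp
    · intro θ hθ
      rw [hzall θ hθ]
      congr 1
      omega
    · intro θ hθ
      rw [hYsum θ hθ, hzall θ hθ, hε1]
      have : (z : ℂ) = (p : ℂ) - (q : ℂ) := by
        have : ((z + q : ℕ) : ℂ) = (p : ℂ) := by exact_mod_cast congrArg (Nat.cast (R := ℂ)) hzq
        push_cast at this
        linear_combination this
      rw [this]; push_cast; ring
    · intro x hx hx1
      rw [hYval' x hx hx1, hε1]; simp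

end Cfsg.Agent.Lib.helper7.BR
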