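import Mathlib
import Cfsg.Agent.Lib.helper7.BR.Defs
import Cfsg.Agent.Lib.helper7.BR.FRONT
import Cfsg.Agent.Lib.Helper16.BRN1d
import Cfsg.Agent.Lib.helper15.BRBRM
import Cfsg.Agent.Lib.Helper1.BREND1core
import Cfsg.Agent.Lib.Helper1.BREND2core
import Cfsg.Agent.Lib.Helper1.BREND3core
import Cfsg.Agent.Lib.Helper13.BRTWO
import Cfsg.Agent.Lib.Helper13.BRLSTR1
import Cfsg.Agent.Lib.Helper28.BRLSTR4
import Cfsg.Agent.Lib.helper7.BR.CEN
import Cfsg.Agent.Lib.helper7.BR.INV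

/-!
# Project BR : the main theorem (Brauer–Reynolds for perfect groups)
-/

set_option autoImplicit false
set_option linter.style.haveILetI false

namespace Cfsg.Agent.Lib.helper7.BR

open Classical

universe u

/-- the branch `ε = -1` (assembly of wave 2 from the cores of END1, END2, END3) -/
theorem brmain_plus {G : Type u} [Group G] [Fintype G] {p : ℕ} [Fact p.Prime] {P : Sylow p G} {q t : ℕ}
    {Xp Xm Y : Finset (Cfsg.IrrCharacter G)} [Fintype (Cfsg.IrrCharacter G)]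
    (hS : Setting p P q t) (hD : CharData p P q t Xp Xm Y) :
    ∃ (m : ℕ) (F : Type) (_ : Field F) (_ : Fintype F), Fintype.card F = 2 ^ m ∧ p = 2 ^ m + 1 ∧
      3 < p ∧ Nonempty (G ≃* Matrix.SpecialLinearGroup (Fin 2) F) ∧
      Nonempty (G ≃* Matrix.ProjectiveSpecialLinearGroup (Fin 2) F) := by
  obtain ⟨H, hH⟩ := exists_compl hS hD
  have hL := card_nrmH hS hD hH
  have hINV : ∀ τ : G, τ ∈ H → orderOf τ = 2 → ∀ g : G, g ∈ nrmH H → g ∉ H → IsConj τ g :=
    fun τ hτH hτ g hg hgH => nrmH_involutions hS hD hH τ hτH hτ g hg hgH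
  have hq := brend1_q_eq_two_core hS hD hH hL hINV
  have hCEN : ∀ τ : G, τ ∈ H → orderOf τ = 2 → Subgroup.centralizer ({τ} : Set G) = nrmH H :=
    fun τ hτH hτ => (involution_values hS hD hH τ hτH hτ).1
  have hLP : ∀ x : G, x ∈ nrmH H → x ∈ (P : Subgroup G) → x = 1 :=
    fun x hx hxP => nrmH_inf_P hS hH x hx hxP
  have hsyl := brend2_sylow_core hS hD hq hH hL hINV hCEN hLP
  exact brend3_plus_core hS hq hsyl

/-- the main theorem, both conclusions (SL and PSL in the second alternative) -/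
theorem br_main {G : Type u} [Group G] [Finite G] (hperf : commutator G = ⊤) (p : ℕ)
    [Fact p.Prime] (hdvd : p ∣ Nat.card G) (hbig : Nat.card G < p ^ 3) (P : Sylow p G)
    (hP : ¬ (P : Subgroup G).Normal) (h2 : ∀ N : Subgroup G, N.Normal → Nat.card N ≠ 2) :
    (∃ (F : Type) (_ : Field F) (_ : Fintype F), Fintype.card F = p ∧ 3 < p ∧
      Nonempty (G ≃* Matrix.ProjectiveSpecialLinearGroup (Fin 2) F)) ∨
    (∃ (m : ℕ) (F : Type) (_ : Field F) (_ : Fintype F), Fintype.card F = 2 ^ m ∧ p = 2 ^ m + 1 ∧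
      3 < p ∧ Nonempty (G ≃* Matrix.SpecialLinearGroup (Fin 2) F) ∧
      Nonempty (G ≃* Matrix.ProjectiveSpecialLinearGroup (Fin 2) F)) := by
  haveI : Fintype G := Fintype.ofFinite G
  haveI : Fintype (Cfsg.IrrCharacter G) := Fintype.ofFinite _
  obtain ⟨hP', h⟩ := front hperf hdvd hbig P hP
  rcases h with h | ⟨θ, d, hd, hsmall, x, hx, hne⟩ | ⟨q, t, Xp, Xm, Y, hS, hD⟩
  · obtain ⟨h3, ⟨e⟩⟩ := case_n_eq_one hperf hbig P hP' hP h h2
    left
    exact ⟨ZMod p, inferInstance, inferInstance, ZMod.card p, h3, ⟨e⟩⟩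
  · exact (small_degree_false hperf P hP' θ d hd hsmall x hx hne).elim
  · right
    exact brmain_plus hS hD

end Cfsg.Agent.Lib.helper7.BR
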